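import Cfsg.Agent.H91.ZN.Twin
import Cfsg.Agent.H69.ZC.Pair
import Cfsg.Agent.H77.TransferTwo
import Cfsg.Agent.S0111

/-!
The Sylow subgroup is properly larger than `T`: then it has order `32` and there is a subgroup of index two.
-/

set_option autoImplicit false
set_option linter.style.haveILetI false

namespace Cfsg.Agent.H91.ZN

open Subgroup Cfsg

variable {Y : Type*} [Group Y] [Finite Y] {ι κ : D8C2 →* Y} {T P Q : Subgroup Y}

theorem Frame.mem {ι : D8C2 →* Y} {T P : Subgroup Y} (h : Frame ι T P) (x : D8C2) : ι x ∈ T :=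
  h.range ▸ ⟨x, rfl⟩

theorem Frame.le {ι : D8C2 →* Y} {T P : Subgroup Y} (h : Frame ι T P) : T ≤ P := fun t ht => by
  obtain ⟨x, rfl⟩ := h.range.ge ht
  rw [h.cent, ← map_mul, ← map_mul, D_central dT (Or.inr (Or.inl rfl))]

theorem Frame.card {ι : D8C2 →* Y} {T P : Subgroup Y} (h : Frame ι T P) : Nat.card T = 16 := by
  rw [← h.range, ← Nat.card_congr (MonoidHom.ofInjective h.inj).toEquiv, Nat.card_prod, DihedralGroup.nat_card]
  simp

/-- The data of the enlargement. -/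
structure Big (ι κ : D8C2 →* Y) (T P Q : Subgroup Y) (S : Sylow 2 Y) : Prop where
  twin : Twin ι κ T P Q
  zn : H74.JB.ZN Y
  le : T < (S : Subgroup Y)
  sylP : IsSylowTwoIn T P
  sylQ : IsSylowTwoIn T Q

variable {S : Sylow 2 Y} (hB : Big ι κ T P Q S)
include hB

theorem Big.mem_T_of_mem {L : Subgroup Y} (hL : IsSylowTwoIn T L) {s : Y} (hs : s ∈ (S : Subgroup Y))
    (hsL : s ∈ L) : s ∈ T := by
  haveI : Fact (Nat.Prime 2) := ⟨Nat.prime_two⟩
  obtain ⟨l, hl, hle⟩ := H74.JB.exists_le_conj hL (S.isPGroup'.to_le inf_le_left)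
    (inf_le_right : (S : Subgroup Y) ⊓ L ≤ L)
  have hTle : T ≤ (S : Subgroup Y) ⊓ L := le_inf hB.le.le hL.1
  have heq : T = (S : Subgroup Y) ⊓ L := eq_of_le_of_card_ge hTle ((card_le_of_le hle).trans
    (card_map_of_injective (MulAut.conj l).injective).le)
  exact heq ▸ ⟨hs, hsL⟩

theorem Big.mem_T {s : Y} (hs : s ∈ (S : Subgroup Y)) (h : s * ι dT = ι dT * s) : s ∈ T :=
  hB.mem_T_of_mem hB.sylP hs ((hB.twin.left.cent s).mpr h)

theorem Big.mem_T' {s : Y} (hs : s ∈ (S : Subgroup Y)) (h : s * κ dT = κ dT * s) : s ∈ T :=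
  hB.mem_T_of_mem hB.sylQ hs ((hB.twin.right.cent s).mpr h)

theorem Big.omega_cases {w : Y} (hw : w ∈ omegaCenterOf (S : Subgroup Y)) : w = 1 ∨ w = ι dZ := by
  obtain ⟨hwS, hc, -⟩ := H74.JB.omega_mem hw
  have hwT : w ∈ T := hB.mem_T hwS (hc _ (hB.le.le (hB.twin.left.mem dT))).symm
  obtain ⟨x, rfl⟩ := hB.twin.left.range.ge hwT
  obtain ⟨s, hs, hsT⟩ := SetLike.exists_of_lt hB.le
  rcases D_center x (fun y => hB.twin.left.inj (by
    rw [map_mul, map_mul, hc _ (hB.le.le (hB.twin.left.mem y))])) with rfl | rfl | rfl | rfl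
  · exact Or.inl (map_one ι)
  · exact absurd (hB.mem_T hs (hc s hs)) hsT
  · exact Or.inr rfl
  · exfalso
    refine hsT (hB.mem_T' hs ?_)
    rw [hB.twin.other]
    exact hc s hs

theorem Big.card_omega : Nat.card ↥(omegaCenterOf (S : Subgroup Y)) ≤ 2 := by
  have hsub : (omegaCenterOf (S : Subgroup Y) : Set Y) ⊆ {1, ι dZ} := fun w hw => hB.omega_cases hw
  calc Nat.card ↥(omegaCenterOf (S : Subgroup Y)) = (omegaCenterOf (S : Subgroup Y) : Set Y).ncard :=
        Nat.card_coe_set_eq _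
    _ ≤ ({1, ι dZ} : Set Y).ncard := Set.ncard_le_ncard hsub (Set.toFinite _)
    _ ≤ 2 := (Set.ncard_insert_le _ _).trans (by rw [Set.ncard_singleton])

theorem Big.z_central {s : Y} (hs : s ∈ (S : Subgroup Y)) : s * ι dZ = ι dZ * s := by
  have hne : omegaCenterOf (S : Subgroup Y) ≠ ⊥ := H74.JB.omega_ne_bot S.isPGroup'
    (fun h => by have := hB.le; rw [h] at this; exact not_lt_bot this)
  obtain ⟨w, hw, hw1⟩ := (Subgroup.bot_or_exists_ne_one _).resolve_left hne
  have hwz := (hB.omega_cases hw).resolve_left hw1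
  exact hwz ▸ (H74.JB.omega_mem hw).2.1 s hs

theorem Big.centralizer_z : centralizer ({ι dZ} : Set Y) ≤ normalizer ((S : Subgroup Y) : Set Y) := by
  refine le_trans (fun y hy => mem_centralizer_iff.mpr fun w hw => ?_) (hB.zn.zn S)
  rcases hB.omega_cases hw with rfl | rfl
  · simp
  · exact (mem_centralizer_singleton_iff.mp hy).symm

/-- A two-subgroup centralising the central involution lies in `S`. -/
theorem Big.le_S {R : Subgroup Y} (hR : IsPGroup 2 R) (h : ∀ r ∈ R, r * ι dZ = ι dZ * r) :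
    R ≤ (S : Subgroup Y) := fun r hr =>
  H69.ZC.mem_of_mem_normalizer (H69.ZC.isPGroup_zpowers_of_mem hR hr)
    (hB.centralizer_z (mem_centralizer_singleton_iff.mpr (h r hr)))

/-- The central involution is not conjugate to `ι dT`. -/
theorem Big.z_not_conj (g : Y) : g * ι dZ * g⁻¹ ≠ ι dT := by
  haveI : Fact (Nat.Prime 2) := ⟨Nat.prime_two⟩
  intro h
  have hle : (S : Subgroup Y).map (MulAut.conj g).toMonoidHom ≤ P := by
    rintro _ ⟨s, hs, rfl⟩
    refine (hB.twin.left.cent _).mpr ?_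
    rw [← h]
    show g * s * g⁻¹ * (g * ι dZ * g⁻¹) = g * ι dZ * g⁻¹ * (g * s * g⁻¹)
    calc g * s * g⁻¹ * (g * ι dZ * g⁻¹) = g * (s * ι dZ) * g⁻¹ := by group
      _ = _ := by rw [hB.z_central hs]; group
  obtain ⟨l, -, hl⟩ := H74.JB.exists_le_conj hB.sylP (S.isPGroup'.map _) hle
  have h1 := card_le_of_le hl
  rw [card_map_of_injective (MulAut.conj g).injective, card_map_of_injective (MulAut.conj l).injective] at h1
  exact absurd (eq_of_le_of_card_ge hB.le.le h1) hB.le.ne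

/-- An element of `S` outside `T` normalising `T` moves `ι dT` to `κ dT`. -/
theorem Big.swap {n : Y} (hn : n ∈ (S : Subgroup Y)) (hnT : n ∉ T)
    (hN : ∀ t ∈ T, n * t * n⁻¹ ∈ T) : n * ι dT * n⁻¹ = κ dT := by
  have hf : ∀ t : T, n * t * n⁻¹ ∈ T := fun t => hN t t.2
  have hsur : Function.Surjective fun t : T => (⟨n * t * n⁻¹, hf t⟩ : T) :=
    Finite.surjective_of_injective fun a b h =>
      Subtype.ext (mul_left_cancel (mul_right_cancel (congrArg Subtype.val h)))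
  obtain ⟨x, hx⟩ := hB.twin.left.range.ge (hN _ (hB.twin.left.mem dT))
  have hxc : ∀ y, x * y = y * x := fun y => hB.twin.left.inj (by
    rw [map_mul, map_mul, hx]
    obtain ⟨t, ht⟩ := hsur ⟨ι y, hB.twin.left.mem y⟩
    obtain ⟨u, hu⟩ := hB.twin.left.range.ge t.2
    have hy : ι y = n * ι u * n⁻¹ := by rw [hu]; exact (congrArg Subtype.val ht).symm
    rw [hy]
    calc n * ι dT * n⁻¹ * (n * ι u * n⁻¹) = n * (ι (dT * u)) * n⁻¹ := by rw [map_mul]; group
      _ = n * ι (u * dT) * n⁻¹ := by rw [D_central dT (Or.inr (Or.inl rfl)) u]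
      _ = _ := by rw [map_mul]; group)
  rcases D_center x hxc with rfl | rfl | rfl | rfl
  · rw [map_one, eq_comm, conj_eq_one_iff] at hx
    exact absurd (hB.twin.left.inj (hx.trans (map_one ι).symm)) (by decide)
  · exact absurd (hB.mem_T hn (mul_inv_eq_iff_eq_mul.mp hx.symm)) hnT
  · exact absurd hx.symm (fun h => hB.z_not_conj n⁻¹ (by rw [← h]; group))
  · rw [hB.twin.other, hx]

/-- An element of `S` outside `T` normalising `T` centralises no noncentral involution of `T`. -/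
theorem Big.no_fixed {n : Y} (hn : n ∈ (S : Subgroup Y)) (hnT : n ∉ T)
    (hN : ∀ t ∈ T, n * t * n⁻¹ ∈ T) {x : D8C2} (hx2 : x * x = 1)
    (hx : ¬ (x = 1 ∨ x = dT ∨ x = dZ ∨ x = dT * dZ)) : n * ι x ≠ ι x * n := by
  intro hc
  have hcx : ∀ v ∈ T, v * ι x = ι x * v → n * v * n⁻¹ * ι x = ι x * (n * v * n⁻¹) := by
    intro v _ hv
    have h1 : n * ι x * n⁻¹ = ι x := mul_inv_eq_iff_eq_mul.mpr hc
    calc n * v * n⁻¹ * ι x = n * v * n⁻¹ * (n * ι x * n⁻¹) := by rw [h1]
      _ = n * (v * ι x) * n⁻¹ := by group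
      _ = n * ι x * n⁻¹ * (n * v * n⁻¹) := by rw [hv]; group
      _ = _ := by rw [h1]
  by_cases hin : inV x
  · have key : ∀ v ∈ T, (v * ι x = ι x * v ↔ v * ι dW = ι dW * v) := by
      intro v hv
      obtain ⟨u, rfl⟩ := hB.twin.left.range.ge hv
      rw [← map_mul, ← map_mul, ← map_mul, ← map_mul, hB.twin.left.inj.eq_iff, hB.twin.left.inj.eq_iff]
      exact inV_cent_eq x u hx2 hin hx
    refine hnT (hB.mem_T_of_mem hB.sylP hn (hB.twin.left.norm n fun v hv hvc => ?_))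
    exact ⟨hN v hv, (key _ (hN v hv)).mp (hcx v hv ((key v hv).mpr hvc))⟩
  · obtain ⟨a, y, hy⟩ := hB.twin.second
    have key : ∀ v ∈ T, (v * ι x = ι x * v ↔ v * κ dW = κ dW * v) := by
      intro v hv
      obtain ⟨u, rfl⟩ := hB.twin.left.range.ge hv
      rw [hy, ← map_inv, ← map_mul, ← map_mul, ← map_mul, ← map_mul, ← map_mul, ← map_mul,
        hB.twin.left.inj.eq_iff, hB.twin.left.inj.eq_iff]
      exact not_inV_cent_eq x u a y hx2 hin hx
    refine hnT (hB.mem_T_of_mem hB.sylQ hn (hB.twin.right.norm n fun v hv hvc => ?_))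
    exact ⟨hN v hv, (key _ (hN v hv)).mp (hcx v hv ((key v hv).mpr hvc))⟩

/-- No subgroup of order sixteen centralises an element of a container of order thirty-two outside `T`. -/
theorem Big.no_centralised {R : Subgroup Y} (hRS : R ≤ (S : Subgroup Y))
    (hR32 : Nat.card R = 32) (hTR : T ≤ R) (hTn : ∀ r ∈ R, ∀ t ∈ T, r * t * r⁻¹ ∈ T) {f : Y} (hfR : f ∈ R) (hfT : f ∉ T)
    {C : Subgroup Y} (hCR : C ≤ R) (hC16 : Nat.card C = 16) (hCf : ∀ c ∈ C, c * f = f * c) : False := by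
  have hCi : C.relIndex R = 2 := by
    have h := Subgroup.card_mul_index (C.subgroupOf R)
    rw [Nat.card_congr (subgroupOfEquivOfLe hCR).toEquiv, hC16, hR32] at h
    rw [relIndex]; omega
  have htC : ι dT ∉ C := fun h => hfT (hB.mem_T (hRS hfR) (hCf _ h).symm)
  obtain ⟨x, hx2, hx, hxC⟩ : ∃ x, x * x = 1 ∧ ¬ (x = 1 ∨ x = dT ∨ x = dZ ∨ x = dT * dZ) ∧ ι x ∈ C := by
    by_cases hW : ι dW ∈ C
    · exact ⟨dW, by decide, by decide, hW⟩
    · refine ⟨dT * dW, by decide, by decide, ?_⟩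
      rw [map_mul]
      have h := mul_mem_iff_of_index_two (show (C.subgroupOf R).index = 2 from hCi)
        (a := ⟨ι dT, hTR (hB.twin.left.mem _)⟩) (b := ⟨ι dW, hTR (hB.twin.left.mem _)⟩)
      simp only [mem_subgroupOf, Subgroup.coe_mul] at h
      exact h.mpr ⟨fun h' => absurd h' htC, fun h' => absurd h' hW⟩
  exact hB.no_fixed (hRS hfR) hfT (hTn f hfR) hx2 hx (hCf _ hxC).symm

/-- Two elements of `S` normalising `T` differ by an element of `T`, unless one is in `T`. -/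
theorem Big.coset {n m : Y} (hn : n ∈ (S : Subgroup Y)) (hnT : n ∉ T) (hnN : ∀ t ∈ T, n * t * n⁻¹ ∈ T)
    (hm : m ∈ (S : Subgroup Y)) (hmT : m ∉ T) (hmN : ∀ t ∈ T, m * t * m⁻¹ ∈ T) : n⁻¹ * m ∈ T := by
  refine hB.mem_T (mul_mem (inv_mem hn) hm) ?_
  have h1 := hB.swap hn hnT hnN
  have h2 := hB.swap hm hmT hmN
  calc n⁻¹ * m * ι dT = n⁻¹ * (m * ι dT * m⁻¹) * m := by group
    _ = n⁻¹ * (n * ι dT * n⁻¹) * m := by rw [h2, h1]
    _ = ι dT * (n⁻¹ * m) := by group

/-- `T` has index two in `S` and is normal in it. -/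
theorem Big.index_two : Nat.card ↥(S : Subgroup Y) = 32 ∧ ∀ s ∈ (S : Subgroup Y), ∀ t ∈ T, s * t * s⁻¹ ∈ T := by
  haveI : Fact (Nat.Prime 2) := ⟨Nat.prime_two⟩
  set R := (S : Subgroup Y) ⊓ normalizer (T : Set Y) with hR
  have hTR : T ≤ R := le_inf hB.le.le le_normalizer
  have hRn : ∀ r ∈ R, ∀ t ∈ T, r * t * r⁻¹ ∈ T := fun r hr t ht => (mem_normalizer_iff.mp hr.2 t).mp ht
  obtain ⟨n, hnS, hnT, hnN⟩ := H69.ZC.exists_normalizing_outside S.isPGroup' hB.le
  have hnR : n ∈ R := ⟨hnS, H74.mem_normalizer_of_conj_mem hnN⟩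
  have hTi : T.relIndex R = 2 := by
    refine relIndex_eq_two_iff.mpr ⟨n, hnR, fun b hb => ?_⟩
    by_cases hbT : b ∈ T
    · exact Or.inr ⟨hbT, fun h => hnT ((mul_mem_cancel_left hbT).mp h)⟩
    · refine Or.inl ⟨?_, hbT⟩
      have := hB.coset (inv_mem hb.1) (fun h => hbT (by simpa using inv_mem h))
        (fun t ht => hRn _ (inv_mem hb) t ht) hnS hnT hnN
      simpa using this
  have hR32 : Nat.card R = 32 := by
    have h := Subgroup.card_mul_index (T.subgroupOf R)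
    rw [Nat.card_congr (subgroupOfEquivOfLe hTR).toEquiv, hB.twin.left.card, ← relIndex, hTi] at h
    omega
  rcases eq_or_lt_of_le (inf_le_left : R ≤ (S : Subgroup Y)) with heq | hlt
  · exact ⟨by rw [← heq]; exact hR32, fun s hs t ht => hRn s (heq.ge hs) t ht⟩
  exfalso
  obtain ⟨m, hmS, hmR, hmN⟩ := H69.ZC.exists_normalizing_outside S.isPGroup' hlt
  set f := m * ι dT * m⁻¹ with hf
  have hfR : f ∈ R := hmN _ (hTR (hB.twin.left.mem dT))
  set C := T.map (MulAut.conj m).toMonoidHom with hC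
  have hCR : C ≤ R := by rintro _ ⟨t, ht, rfl⟩; exact hmN t (hTR ht)
  have hC16 : Nat.card C = 16 := (card_map_of_injective (MulAut.conj m).injective).trans hB.twin.left.card
  have hCf : ∀ c ∈ C, c * f = f * c := by
    rintro _ ⟨t, ht, rfl⟩
    show m * t * m⁻¹ * (m * ι dT * m⁻¹) = m * ι dT * m⁻¹ * (m * t * m⁻¹)
    have h1 := (hB.twin.left.cent t).mp (hB.twin.left.le ht)
    calc m * t * m⁻¹ * (m * ι dT * m⁻¹) = m * (t * ι dT) * m⁻¹ := by group
      _ = _ := by rw [h1]; group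
  by_cases hfT : f ∈ T
  · obtain ⟨x, hx⟩ := hB.twin.left.range.ge hfT
    have hx2 : x * x = 1 := hB.twin.left.inj (by
      rw [map_mul, map_one, hx, hf]
      calc m * ι dT * m⁻¹ * (m * ι dT * m⁻¹) = m * ι (dT * dT) * m⁻¹ := by rw [map_mul]; group
        _ = 1 := by rw [dT_sq, map_one]; group)
    by_cases hxc : x = 1 ∨ x = dT ∨ x = dZ ∨ x = dT * dZ
    · rcases hxc with rfl | rfl | rfl | rfl
      · rw [map_one, eq_comm, hf, conj_eq_one_iff] at hx
        exact absurd (hB.twin.left.inj (hx.trans (map_one ι).symm)) (by decide)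
      · exact hmR (hTR (hB.mem_T hmS (mul_inv_eq_iff_eq_mul.mp hx.symm)))
      · exact hB.z_not_conj m⁻¹ (by rw [hx, hf]; group)
      · have h1 := hB.swap hnS hnT hnN
        rw [hB.twin.other] at h1
        have h2 : n⁻¹ * m ∈ T := hB.mem_T (mul_mem (inv_mem hnS) hmS) (by
          calc n⁻¹ * m * ι dT = n⁻¹ * (m * ι dT * m⁻¹) * m := by group
            _ = n⁻¹ * (n * ι dT * n⁻¹) * m := by rw [← hf, ← hx, h1]
            _ = ι dT * (n⁻¹ * m) := by group)
        exact hmR ((mul_mem_cancel_left (inv_mem hnR)).mp (hTR h2))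
    · obtain ⟨c, hc, hcT⟩ : ∃ c ∈ C, c ∉ T := by
        by_contra h
        push Not at h
        have heq : C = T := eq_of_le_of_card_ge h (by rw [hC16, hB.twin.left.card])
        exact hmR ⟨hmS, H74.mem_normalizer_of_conj_mem fun t ht => heq.le ⟨t, ht, rfl⟩⟩
      exact hB.no_fixed (hCR hc).1 hcT (hRn c (hCR hc)) hx2 hxc (by rw [hx]; exact hCf c hc)
  · exact hB.no_centralised inf_le_left hR32 hTR hRn hfR hfT hCR hC16 hCf

/-- An element outside `T` with square central in the data commutes with an element of order four. -/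
theorem Big.exists_four {f : Y} (hf : f ∈ (S : Subgroup Y)) (hfT : f ∉ T) (hf2 : f * f = 1 ∨ f * f = ι dZ) :
    ∃ u ∈ T, u * u = ι dZ ∧ f * u = u * f := by
  have hN := hB.index_two.2 f hf
  have hcz : f * ι dZ * f⁻¹ = ι dZ := mul_inv_eq_iff_eq_mul.mpr (hB.z_central hf)
  have hct : f * ι dT * f⁻¹ = ι dT * ι dZ := by rw [hB.swap hf hfT hN, hB.twin.other, map_mul]
  obtain ⟨x, hx⟩ := hB.twin.left.range.ge (hN _ (hB.twin.left.mem dR))
  have hRR : ι dR * ι dR = ι dZ := by rw [← map_mul, show dR * dR = dZ by decide]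
  have hxx : x * x = dZ := hB.twin.left.inj (by
    rw [map_mul, hx, ← hcz, ← hRR]; group)
  have hback : f * ι x * f⁻¹ = ι dR := by
    have hc : f * f * ι dR = ι dR * (f * f) := by
      rcases hf2 with h | h <;> rw [h]
      · simp
      · rw [← map_mul, ← map_mul, D_central dZ (Or.inr (Or.inr (Or.inl rfl)))]
    rw [hx]
    calc f * (f * ι dR * f⁻¹) * f⁻¹ = f * f * ι dR * (f * f)⁻¹ := by group
      _ = ι dR := mul_inv_eq_iff_eq_mul.mpr hc
  rcases order_four x hxx with rfl | rfl | rfl | rfl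
  · exact ⟨ι dR, hB.twin.left.mem _, hRR, mul_inv_eq_iff_eq_mul.mp hx.symm⟩
  · refine ⟨ι (dT * dR), hB.twin.left.mem _, by rw [← map_mul]; exact congrArg ι (by decide),
      mul_inv_eq_iff_eq_mul.mp ?_⟩
    calc f * ι (dT * dR) * f⁻¹ = f * ι dT * f⁻¹ * (f * ι dR * f⁻¹) := by rw [map_mul]; group
      _ = ι dT * ι dZ * ι (dR * dZ) := by rw [hct, ← hx]
      _ = ι (dT * dR) := by rw [← map_mul, ← map_mul]; exact congrArg ι (by decide)
  · exfalso
    have h1 : f * ι (dT * dR) * f⁻¹ = ι dT * ι dZ * ι (dT * dR) := by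
      calc f * ι (dT * dR) * f⁻¹ = f * ι dT * f⁻¹ * (f * ι dR * f⁻¹) := by rw [map_mul]; group
        _ = _ := by rw [hct, ← hx]
    rw [hback, ← map_mul, ← map_mul] at h1
    exact absurd (hB.twin.left.inj h1) (by decide)
  · exfalso
    have h1 : f * ι (dT * dR * dZ) * f⁻¹ = ι dT * ι dZ * ι (dT * dR * dZ) * ι dZ := by
      calc f * ι (dT * dR * dZ) * f⁻¹ = f * ι dT * f⁻¹ * (f * ι dR * f⁻¹) * (f * ι dZ * f⁻¹) := by
            rw [map_mul, map_mul]; group
        _ = _ := by rw [hct, hcz, ← hx]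
    rw [hback, ← map_mul, ← map_mul, ← map_mul] at h1
    exact absurd (hB.twin.left.inj h1) (by decide)

/-- No involution of `S` outside `T` is conjugate to `ι dT`. -/
theorem Big.outside_not_conj {f : Y} (hf : f ∈ (S : Subgroup Y)) (hfT : f ∉ T) (g : Y) :
    g * ι dT * g⁻¹ ≠ f := by
  intro hg
  have hT2 : ι dT * ι dT = 1 := by rw [← map_mul, dT_sq, map_one]
  have hf2 : f * f = 1 := by
    rw [← hg]
    calc g * ι dT * g⁻¹ * (g * ι dT * g⁻¹) = g * (ι dT * ι dT) * g⁻¹ := by group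
      _ = 1 := by rw [hT2]; group
  obtain ⟨u, -, huu, hfu⟩ := hB.exists_four hf hfT (Or.inl hf2)
  have hyP : g⁻¹ * u * g ∈ P := by
    refine (hB.twin.left.cent _).mpr ?_
    have h1 : ι dT = g⁻¹ * f * g := by rw [← hg]; group
    rw [h1]
    calc g⁻¹ * u * g * (g⁻¹ * f * g) = g⁻¹ * (u * f) * g := by group
      _ = _ := by rw [← hfu]; group
  have hsq : g⁻¹ * u * g * (g⁻¹ * u * g) = g⁻¹ * ι dZ * g := by rw [← huu]; group
  have hzz : ι dZ * ι dZ = 1 := by rw [← map_mul, show dZ * dZ = (1 : D8C2) by decide, map_one]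
  have hz1 : ι dZ ≠ 1 := fun h => absurd (hB.twin.left.inj (h.trans (map_one ι).symm)) (by decide)
  obtain ⟨k, hk, hkz⟩ := hB.twin.left.sq _ hyP (by
    rw [hsq]
    calc g⁻¹ * ι dZ * g * (g⁻¹ * ι dZ * g) = g⁻¹ * (ι dZ * ι dZ) * g := by group
      _ = 1 := by rw [hzz]; group) (by
    rw [hsq]
    intro h
    refine hz1 ?_
    calc ι dZ = g * (g⁻¹ * ι dZ * g) * g⁻¹ := by group
      _ = 1 := by rw [h]; group)
  rw [hsq] at hkz
  set C := T.map (MulAut.conj (g * k)).toMonoidHom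
  have hcent : ∀ c ∈ C, c * ι dZ = ι dZ * c ∧ c * f = f * c := by
    rintro _ ⟨t, ht, rfl⟩
    obtain ⟨x, rfl⟩ := hB.twin.left.range.ge ht
    have hzc : ι x * ι dZ = ι dZ * ι x := by
      rw [← map_mul, ← map_mul, D_central dZ (Or.inr (Or.inr (Or.inl rfl)))]
    have htc : ι x * ι dT = ι dT * ι x := by
      rw [← map_mul, ← map_mul, D_central dT (Or.inr (Or.inl rfl))]
    have e1 : g * k * ι dZ * (g * k)⁻¹ = ι dZ := by
      calc g * k * ι dZ * (g * k)⁻¹ = g * (k * ι dZ * k⁻¹) * g⁻¹ := by group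
        _ = _ := by rw [hkz]; group
    have e2 : g * k * ι dT * (g * k)⁻¹ = f := by
      calc g * k * ι dT * (g * k)⁻¹ = g * (k * ι dT * k⁻¹) * g⁻¹ := by group
        _ = _ := by rw [mul_inv_eq_iff_eq_mul.mpr ((hB.twin.left.cent k).mp hk), hg]
    constructor
    · show g * k * ι x * (g * k)⁻¹ * ι dZ = ι dZ * (g * k * ι x * (g * k)⁻¹)
      calc g * k * ι x * (g * k)⁻¹ * ι dZ = g * k * ι x * (g * k)⁻¹ * (g * k * ι dZ * (g * k)⁻¹) := by rw [e1]
        _ = g * k * (ι x * ι dZ) * (g * k)⁻¹ := by group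
        _ = g * k * ι dZ * (g * k)⁻¹ * (g * k * ι x * (g * k)⁻¹) := by rw [hzc]; group
        _ = _ := by rw [e1]
    · show g * k * ι x * (g * k)⁻¹ * f = f * (g * k * ι x * (g * k)⁻¹)
      calc g * k * ι x * (g * k)⁻¹ * f = g * k * ι x * (g * k)⁻¹ * (g * k * ι dT * (g * k)⁻¹) := by rw [e2]
        _ = g * k * (ι x * ι dT) * (g * k)⁻¹ := by group
        _ = g * k * ι dT * (g * k)⁻¹ * (g * k * ι x * (g * k)⁻¹) := by rw [htc]; group
        _ = _ := by rw [e2]
  have hCS : C ≤ (S : Subgroup Y) := hB.le_S (hB.sylP.2.1.map _) fun c hc => (hcent c hc).1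
  exact hB.no_centralised le_rfl hB.index_two.1 hB.le.le hB.index_two.2 hf hfT hCS
    ((card_map_of_injective (MulAut.conj (g * k)).injective).trans hB.twin.left.card)
    fun c hc => (hcent c hc).2

end Cfsg.Agent.H91.ZN
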