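import Cfsg.Agent.H91.ZN.Transfer
import Cfsg.Agent.H69.ZC.Basic
import Cfsg.Agent.H74.TwoTimesDihedral
import Cfsg.Agent.S2954

/-!
The case where the residual joined with the central involutions has characteristic two type.
-/

set_option autoImplicit false
set_option linter.style.haveILetI false

namespace Cfsg.Agent.H91.ZN

open Subgroup Cfsg
open scoped Pointwise

variable {G : Type*} [Group G] [Finite G]

local notation "zOne" => H69.ZC.zOne
local notation "res" => H69.ZC.res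

omit [Finite G] in
theorem conj_back (g u : G) : g⁻¹ * (g * u * g⁻¹) * g = u := by group

/-- Solvable two-locals make the centralisers of involutions solvable. -/
theorem solv_of_locals (hN : ∀ L : Subgroup G, IsTwoLocal L → Group.IsSolvable ↥L) (t : G) (ht : orderOf t = 2) :
    Group.IsSolvable ↥(centralizer ({t} : Set G)) := by
  have h2 : t * t = 1 := by rw [← pow_two, ← ht, pow_orderOf_eq_one]
  have h1 : zpowers t ≠ ⊥ := fun h => (H69.ZC.ne_one_of_orderOf ht).1 (zpowers_eq_bot.mp h)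
  haveI := hN _ ⟨zpowers t, zpowers_isPGroup h2, h1, rfl⟩
  exact Group.isSolvable_of_isSolvable_injective (inclusion_injective (centralizer_le_normalizer_zpowers (x := t)))

theorem isQuasiDihedral_equiv {A B : Type*} [Group A] [Group B] (e : A ≃* B) (h : IsQuasiDihedral A) :
    IsQuasiDihedral B := by
  obtain ⟨n, hn, hc, x, y, hx, hy, he⟩ := h
  refine ⟨n, hn, (Nat.card_congr e.toEquiv).symm.trans hc, e x, e y, ?_, ?_, ?_⟩
  · rw [MulEquiv.orderOf_eq]; exact hx
  · rw [MulEquiv.orderOf_eq]; exact hy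
  · rw [← map_inv, ← map_mul, ← map_mul, he, map_pow]

/-- The data of the characteristic two case. -/
structure Local (G : Type*) [Group G] [Finite G] (S : Sylow 2 G) : Prop where
  setting : H69.ZC.Setting G
  locals : ∀ L : Subgroup G, IsTwoLocal L → Group.IsSolvable ↥L
  char : IsCharacteristicTwoType ↥(res G ⊔ zOne (S : Subgroup G))

variable {S : Sylow 2 G}

local notation "XX" => (res G ⊔ zOne (S : Subgroup G))

/-- A Sylow subgroup of the enlarged residual is a conjugate of the intersection with `S`. -/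
theorem exists_conj_eq (hl : Local G S) (P : Sylow 2 ↥XX) :
    ∃ g : G, ∀ v : ↥XX, v ∈ (P : Subgroup ↥XX) ↔ g⁻¹ * (v : G) * g ∈ (S : Subgroup G) := by
  haveI : Fact (Nat.Prime 2) := ⟨Nat.prime_two⟩
  haveI := hl.setting.sup_normal S
  obtain ⟨S₁, hS₁⟩ := (P.isPGroup'.map (XX).subtype).exists_le_sylow
  obtain ⟨g, hg⟩ := MulAction.exists_smul_eq G S S₁
  have hmem : ∀ w : G, w ∈ (S₁ : Subgroup G) ↔ g⁻¹ * w * g ∈ (S : Subgroup G) := by
    intro w
    rw [← hg]
    constructor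
    · rintro ⟨u, hu, rfl⟩
      show g⁻¹ * (g * u * g⁻¹) * g ∈ _
      rw [conj_back]; exact hu
    · exact fun h => ⟨g⁻¹ * w * g, h, by show g * (g⁻¹ * w * g) * g⁻¹ = w; group⟩
  refine ⟨g, fun v => ?_⟩
  have hle : (P : Subgroup ↥XX) ≤ (S₁ : Subgroup G).subgroupOf XX := fun w hw =>
    mem_subgroupOf.mpr (hS₁ (mem_map_of_mem _ hw))
  have heq := P.3 (S₁.isPGroup'.comap_subtype (K := XX)) hle
  rw [← hmem, ← heq]
  exact Iff.rfl

theorem conj_mem_XX (hl : Local G S) (g : G) {v : G} (hv : v ∈ XX) : g * v * g⁻¹ ∈ XX := by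
  haveI := hl.setting.sup_normal S
  exact Normal.conj_mem inferInstance v hv g

theorem zn_of_local (hl : Local G S) : H74.JB.ZN ↥XX := by
  refine ⟨hl.char, ?_, ?_⟩
  · rintro N ⟨T, hT, hT1, rfl⟩
    have h1 : T.map (XX).subtype ≠ ⊥ :=
      fun h => hT1 ((map_eq_bot_iff_of_injective T (XX).subtype_injective).mp h)
    haveI := hl.locals _ ⟨_, hT.map _, h1, rfl⟩
    have hle : (normalizer (T : Set ↥XX)).map (XX).subtype ≤ normalizer (T.map (XX).subtype : Set G) :=
      le_normalizer_map _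
    haveI : Group.IsSolvable ↥((normalizer (T : Set ↥XX)).map (XX).subtype) :=
      Group.isSolvable_of_isSolvable_injective (inclusion_injective hle)
    exact Group.isSolvable_of_isSolvable_injective
      (f := ((normalizer (T : Set ↥XX)).equivMapOfInjective _ (XX).subtype_injective).toMonoidHom)
      (MulEquiv.injective _)
  · intro P c hc
    obtain ⟨g, hg⟩ := exists_conj_eq hl P
    have hN : g⁻¹ * (c : G) * g ∈ normalizer ((S : Subgroup G) : Set G) := by
      refine hl.setting.norm S (mem_centralizer_iff.mpr fun z hz => ?_)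
      obtain ⟨hzS, hzc, hz2⟩ := H69.ZC.mem_zOne.mp hz
      set w : ↥XX := ⟨g * z * g⁻¹, conj_mem_XX hl g (mem_sup_right hz)⟩
      have hwP : w ∈ (P : Subgroup ↥XX) := (hg w).mpr (by
        show g⁻¹ * (g * z * g⁻¹) * g ∈ _
        simpa [mul_assoc] using hzS)
      have hw : w ∈ omegaCenterOf (P : Subgroup ↥XX) := by
        refine H69.ZC.mem_zOne.mpr ⟨hwP, fun p hp => Subtype.ext ?_, Subtype.ext ?_⟩
        · have h1 := hzc _ ((hg p).mp hp)
          show (p : G) * (g * z * g⁻¹) = g * z * g⁻¹ * p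
          calc (p : G) * (g * z * g⁻¹) = g * (g⁻¹ * p * g * z) * g⁻¹ := by group
            _ = _ := by rw [h1]; group
        · show (g * z * g⁻¹) ^ 2 = 1
          rw [conj_pow, hz2]; group
      have h1 : g * z * g⁻¹ * (c : G) = (c : G) * (g * z * g⁻¹) :=
        congrArg Subtype.val (mem_centralizer_iff.mp hc w hw)
      calc z * (g⁻¹ * (c : G) * g) = g⁻¹ * (g * z * g⁻¹ * c) * g := by group
        _ = _ := by rw [h1]; group
    refine H74.mem_normalizer_of_conj_mem fun p hp => (hg _).mpr ?_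
    have h2 := (mem_normalizer_iff.mp hN _).mp ((hg p).mp hp)
    simpa [mul_assoc] using h2

theorem pCore_eq_bot (hl : Local G S) : pCore 2 ↥XX = ⊥ := by
  haveI := hl.setting.sup_normal S
  haveI : (pCore 2 ↥XX).Characteristic := H51.pCore_characteristic 2 _
  have h := H51.le_pCore (G := G) (N := (pCore 2 ↥XX).map (XX).subtype) inferInstance
    ((H51.pCore_isPGroup 2 _).map _)
  rw [hl.setting.two, le_bot_iff] at h
  exact (map_eq_bot_iff_of_injective _ (XX).subtype_injective).mp h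

/-- Few central involutions put them in the residual. -/
theorem sup_eq_res (hl : Local G S) (P : Sylow 2 ↥XX)
    (h2 : Nat.card ↥(omegaCenterOf (P : Subgroup ↥XX)) ≤ 2) : XX = res G := by
  obtain ⟨g, hg⟩ := exists_conj_eq hl P
  obtain ⟨z, hz, hzr, hz1⟩ := hl.setting.exists_zOne_res S
  have hmk : ∀ w ∈ zOne (S : Subgroup G), ∃ v ∈ omegaCenterOf (P : Subgroup ↥XX), (v : G) = g * w * g⁻¹ := by
    intro w hw
    obtain ⟨hwS, hwc, hw2⟩ := H69.ZC.mem_zOne.mp hw
    set v : ↥XX := ⟨g * w * g⁻¹, conj_mem_XX hl g (mem_sup_right hw)⟩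
    refine ⟨v, H69.ZC.mem_zOne.mpr ⟨(hg v).mpr (by
      show g⁻¹ * (g * w * g⁻¹) * g ∈ _
      simpa [mul_assoc] using hwS), fun p hp => Subtype.ext ?_, Subtype.ext ?_⟩, rfl⟩
    · have h1 := hwc _ ((hg p).mp hp)
      show (p : G) * (g * w * g⁻¹) = g * w * g⁻¹ * p
      calc (p : G) * (g * w * g⁻¹) = g * (g⁻¹ * p * g * w) * g⁻¹ := by group
        _ = _ := by rw [h1]; group
    · show (g * w * g⁻¹) ^ 2 = 1
      rw [conj_pow, hw2]; group
  refine le_antisymm (sup_le le_rfl fun w hw => ?_) le_sup_left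
  by_contra hwr
  obtain ⟨v, hv, hvw⟩ := hmk w hw
  obtain ⟨u, hu, huz⟩ := hmk z hz
  have h1 : (1 : ↥XX) ≠ u := fun h => hz1 (by
    rw [← h, Subgroup.coe_one, eq_comm, conj_eq_one_iff] at huz
    exact huz)
  have h3 : (1 : ↥XX) ≠ v := fun h => hwr (by
    rw [← h, Subgroup.coe_one, eq_comm, conj_eq_one_iff] at hvw
    rw [hvw]; exact one_mem _)
  have h4 : u ≠ v := fun h => hwr (by
    rw [h, hvw] at huz
    rw [mul_left_cancel (mul_right_cancel huz)]; exact hzr)
  have hsub : ({1, u, v} : Set ↥XX) ⊆ omegaCenterOf (P : Subgroup ↥XX) := by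
    rintro x (rfl | rfl | rfl)
    exacts [one_mem _, hu, hv]
  have h5 := Set.ncard_le_ncard hsub (Set.toFinite _)
  rw [Set.ncard_eq_three.mpr ⟨1, u, v, h1, h3, h4, rfl⟩, ← Nat.card_coe_set_eq] at h5
  exact absurd (h5.trans h2) (by norm_num)

/-- The residual has no subgroup of index two. -/
theorem no_index_two (hl : Local G S) (h : XX = res G) (H : Subgroup ↥XX) : H.index ≠ 2 := by
  intro hH
  have hodd : ∀ v : ↥XX, Odd (orderOf v) → v ∈ H := by
    intro v hv
    obtain ⟨k, hk⟩ := hv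
    have e : v = (v ^ 2) ^ (k + 1) := by
      rw [← pow_mul, show 2 * (k + 1) = orderOf v + 1 by omega, pow_succ, pow_orderOf_eq_one, one_mul]
    rw [e]
    exact pow_mem (sq_mem_of_index_two hH v) _
  have hall : ∀ w ∈ res G, ∃ hw : w ∈ XX, (⟨w, hw⟩ : ↥XX) ∈ H := by
    intro w hw
    induction hw using closure_induction with
    | mem y hy =>
      exact ⟨mem_sup_left (subset_closure hy), hodd _ (by
        rw [Subgroup.orderOf_mk]; exact Nat.coprime_two_right.mp hy)⟩
    | one => exact ⟨one_mem _, H.one_mem⟩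
    | mul a b _ _ ha hb => exact ⟨mul_mem ha.1 hb.1, H.mul_mem ha.2 hb.2⟩
    | inv a _ ha => exact ⟨inv_mem ha.1, H.inv_mem ha.2⟩
  have htop : H = ⊤ := eq_top_iff.mpr fun v _ => (hall v (h.le v.2)).2
  rw [htop, index_top] at hH
  exact absurd hH (by norm_num)

theorem sylow_equiv (h : XX = res G) (hl : Local G S) (P : Sylow 2 ↥XX) :
    Nonempty (↥(P : Subgroup ↥XX) ≃* ↥((S : Subgroup G) ⊓ res G)) := by
  haveI := H69.ZC.res_normal G
  obtain ⟨g, hg⟩ := exists_conj_eq hl P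
  let f : ↥(P : Subgroup ↥XX) →* ↥((S : Subgroup G) ⊓ res G) :=
    { toFun := fun v => ⟨g⁻¹ * ((v : ↥XX) : G) * g, (hg _).mp v.2, by
        simpa using Normal.conj_mem (H := res G) inferInstance _ (h.le (v : ↥XX).2) g⁻¹⟩
      map_one' := Subtype.ext (by simp)
      map_mul' := fun a b => Subtype.ext (by simp [mul_assoc]) }
  refine ⟨MulEquiv.ofBijective f ⟨fun a b e => ?_, fun w => ?_⟩⟩
  · have := congrArg Subtype.val e
    exact Subtype.ext (Subtype.ext (mul_left_cancel (mul_right_cancel this)))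
  · refine ⟨⟨⟨g * (w : G) * g⁻¹, h.ge (Normal.conj_mem inferInstance _ w.2.2 g)⟩, (hg _).mpr ?_⟩, Subtype.ext ?_⟩
    · show g⁻¹ * (g * (w : G) * g⁻¹) * g ∈ _
      rw [conj_back]; exact w.2.1
    · show g⁻¹ * (g * (w : G) * g⁻¹) * g = w
      group

/-- The case of a Sylow subgroup `C₂ × D₈`. -/
theorem dihedral_of_model (hl : Local G S) (P : Sylow 2 ↥XX) {ι : D8C2 →* ↥XX} (hι : Function.Injective ι)
    (hr : ι.range = (P : Subgroup ↥XX)) : Nonempty (↥((S : Subgroup G) ⊓ res G) ≃* DihedralGroup 4) := by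
  haveI := H69.ZC.res_normal G
  haveI := hl.setting.sup_normal S
  have hne : XX ≠ res G := fun h => H74.TwoDih.false_of_no_index_two P
    ((MulEquiv.subgroupCongr hr.symm).trans (MonoidHom.ofInjective hι).symm) (no_index_two hl h)
  obtain ⟨g, hg⟩ := exists_conj_eq hl P
  set R : Subgroup ↥XX := (res G).subgroupOf XX
  have hRn : R.Normal := Normal.comap inferInstance _
  have hmemP : ∀ x, ι x ∈ (P : Subgroup ↥XX) := fun x => hr.le ⟨x, rfl⟩
  -- every element is congruent to a central involution of the model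
  have hmod : ∀ v : ↥XX, ∃ c, (c = 1 ∨ c = dT ∨ c = dZ ∨ c = dT * dZ) ∧ v * ι c ∈ R := by
    intro v
    obtain ⟨a, ha, w, hw, haw⟩ := mem_sup_of_normal_left.mp (conj_mem_XX hl g⁻¹ v.2)
    obtain ⟨hwS, hwc, hw2⟩ := H69.ZC.mem_zOne.mp hw
    set u : ↥XX := ⟨g * w * g⁻¹, conj_mem_XX hl g (mem_sup_right hw)⟩
    have huP : u ∈ (P : Subgroup ↥XX) := (hg u).mpr (by
      show g⁻¹ * (g * w * g⁻¹) * g ∈ _
      simpa [mul_assoc] using hwS)
    obtain ⟨c, hc⟩ := hr.ge huP
    refine ⟨c, D_center c (fun y => hι ?_), mem_subgroupOf.mpr ?_⟩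
    · rw [map_mul, map_mul, hc]
      refine Subtype.ext ?_
      have h1 := hwc _ ((hg _).mp (hmemP y))
      show g * w * g⁻¹ * ((ι y : ↥XX) : G) = (ι y : ↥XX) * (g * w * g⁻¹)
      calc g * w * g⁻¹ * ((ι y : ↥XX) : G) = g * (w * (g⁻¹ * (ι y : ↥XX) * g)) * g⁻¹ := by group
        _ = _ := by rw [← h1]; group
    · rw [hc]
      show (v : G) * (g * w * g⁻¹) ∈ res G
      have hv : (v : G) = g * (a * w) * g⁻¹ := by rw [haw]; group
      rw [hv, show g * (a * w) * g⁻¹ * (g * w * g⁻¹) = g * (a * (w * w)) * g⁻¹ by group, ← pow_two, hw2, mul_one]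
      exact Normal.conj_mem inferInstance a ha g
  have hzR : ι dZ ∈ R := by
    obtain ⟨c, hc, hcR⟩ := hmod (ι dR)
    have h1 : dR * c * (dR * c) = dZ := by
      rcases hc with rfl | rfl | rfl | rfl <;> decide
    rw [← h1, map_mul, map_mul]
    exact R.mul_mem hcR hcR
  have hTR : ι dT ∉ R := by
    intro hT
    refine hne (le_antisymm (fun v hv => ?_) le_sup_left)
    obtain ⟨c, hc, hcR⟩ := hmod ⟨v, hv⟩
    have hcm : ι c ∈ R := by
      rcases hc with rfl | rfl | rfl | rfl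
      · rw [map_one]; exact one_mem _
      · exact hT
      · exact hzR
      · rw [map_mul]; exact mul_mem hT hzR
    exact mem_subgroupOf.mp ((mul_mem_cancel_right hcm).mp hcR)
  set K := R.comap ι
  let f : ↥K →* ↥((S : Subgroup G) ⊓ res G) :=
    { toFun := fun x => ⟨g⁻¹ * ((ι x : ↥XX) : G) * g, (hg _).mp (hmemP _), by
        simpa using Normal.conj_mem (H := res G) inferInstance _
          (mem_subgroupOf.mp (show ι (x : D8C2) ∈ R from x.2)) g⁻¹⟩
      map_one' := Subtype.ext (by simp)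
      map_mul' := fun a b => Subtype.ext (by simp [mul_assoc]) }
  have hf : Function.Bijective f := by
    refine ⟨fun a b e => ?_, fun w => ?_⟩
    · have := congrArg Subtype.val e
      exact Subtype.ext (hι (Subtype.ext (mul_left_cancel (mul_right_cancel this))))
    · have hmr : g * (w : G) * g⁻¹ ∈ res G := Normal.conj_mem inferInstance _ w.2.2 g
      obtain ⟨x, hx⟩ := hr.ge ((hg ⟨g * (w : G) * g⁻¹, mem_sup_left hmr⟩).mpr (by
        show g⁻¹ * (g * (w : G) * g⁻¹) * g ∈ _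
        rw [conj_back]; exact w.2.1))
      refine ⟨⟨x, show ι x ∈ R by rw [hx]; exact mem_subgroupOf.mpr hmr⟩, Subtype.ext ?_⟩
      show g⁻¹ * ((ι x : ↥XX) : G) * g = w
      rw [hx]
      show g⁻¹ * (g * (w : G) * g⁻¹) * g = w
      group
  let p : ↥K →* DihedralGroup 4 := (MonoidHom.snd _ _).comp K.subtype
  have hp : Function.Bijective p := by
    refine ⟨(injective_iff_map_eq_one p).mpr fun x hx => ?_, fun d => ?_⟩
    · obtain ⟨⟨b, d⟩, hbd⟩ := x
      have hd : d = 1 := hx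
      subst hd
      rcases (by decide : ∀ b : Multiplicative (ZMod 2), b = 1 ∨ b = Multiplicative.ofAdd 1) b with rfl | rfl
      · rfl
      · exact absurd hbd hTR
    · obtain ⟨c, hc, hcR⟩ := hmod (ι (1, d))
      have hkey : ((1, d) : D8C2) ∈ K ∨ ((1, d) : D8C2) * dT ∈ K := by
        rcases hc with rfl | rfl | rfl | rfl
        · exact Or.inl (by simpa [K] using hcR)
        · exact Or.inr (by simpa [K] using hcR)
        · exact Or.inl ((mul_mem_cancel_right hzR).mp hcR)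
        · refine Or.inr ?_
          rw [map_mul, ← mul_assoc] at hcR
          show ι ((1, d) * dT) ∈ R
          rw [map_mul]
          exact (mul_mem_cancel_right hzR).mp hcR
      rcases hkey with h | h
      · exact ⟨⟨_, h⟩, rfl⟩
      · exact ⟨⟨_, h⟩, show d * (DihedralGroup.r 0) = d by rw [DihedralGroup.r_zero, mul_one]⟩
  exact ⟨(MulEquiv.ofBijective f hf).symm.trans (MulEquiv.ofBijective p hp)⟩

/-- The Sylow subgroup of the residual when a straddling subgroup exists. -/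
theorem shape_of_straddling (hl : Local G S) (P : Sylow 2 ↥XX) (M : Subgroup ↥XX) (hM : IsTwoLocal M)
    (hMJ : normalizer (thompsonSubgroupOf 2 (P : Subgroup ↥XX) : Set ↥XX) ≤ M)
    (hne : (straddlingTwoSubgroups M).Nonempty) :
    (∃ n : ℕ, 2 ≤ n ∧ Nonempty (↥((S : Subgroup G) ⊓ res G) ≃* DihedralGroup n)) ∨
      IsQuasiDihedral ↥((S : Subgroup G) ⊓ res G) := by
  haveI : Fact (Nat.Prime 2) := ⟨Nat.prime_two⟩
  obtain ⟨T, hT⟩ : (maxStraddlingTwoSubgroups M).Nonempty := by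
    obtain ⟨T₀, hT₀, hm⟩ := Set.exists_max_image (straddlingTwoSubgroups M)
      (fun X => toLex (maxElemAbelianOrder X, toLex (Nat.card ↥(thompsonSubgroupOf 2 X), Nat.card ↥X)))
      (Set.toFinite _) hne
    refine ⟨T₀, hT₀, fun X hX => ?_⟩
    have h1 := hm X hX
    rw [Prod.Lex.toLex_le_toLex] at h1
    rcases h1 with h1 | ⟨e1, h1⟩
    · exact ⟨le_of_lt h1, fun e => absurd e (ne_of_lt h1)⟩
    · rw [Prod.Lex.toLex_le_toLex] at h1
      refine ⟨le_of_eq e1, fun _ => ?_⟩
      rcases h1 with h1 | ⟨e2, h1⟩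
      · exact ⟨le_of_lt h1, fun e => absurd e (ne_of_lt h1)⟩
      · exact ⟨le_of_eq e2, fun _ => h1⟩
  have hZN := zn_of_local hl
  obtain ⟨P₁, P₂, hne', hP₁, hP₂, hT₁, hT₂, h⟩ :=
    Cfsg.Agent.S2954.result hZN.char hZN.solv hZN.zn (pCore_eq_bot hl) P M hM hMJ T hT
  obtain ⟨S', hS'⟩ := hT₁.2.1.exists_le_sylow
  rcases h with ⟨⟨e⟩, -⟩ | ⟨⟨e₁⟩, ⟨e₂⟩⟩
  · obtain ⟨h2, hd⟩ := sylow_of_symFour hP₁ hT₁ e S' hS'
    obtain ⟨eq⟩ := sylow_equiv (sup_eq_res hl S' h2) hl S'
    rcases hd with ⟨n, hn, ⟨d⟩⟩ | hd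
    · exact Or.inl ⟨n, hn, ⟨eq.symm.trans d⟩⟩
    · exact Or.inr (isQuasiDihedral_equiv eq hd)
  · obtain ⟨ι, κ, htw⟩ := exists_twin hP₁ hP₂ hT₁ hT₂ hne' e₁ e₂
    rcases eq_or_lt_of_le hS' with heq | hlt
    · exact Or.inl ⟨4, by norm_num, dihedral_of_model hl S' htw.left.inj (htw.left.range.trans heq)⟩
    · exfalso
      have hB : Big ι κ T P₁ P₂ S' := ⟨htw, hZN, hlt, hT₁, hT₂⟩
      obtain ⟨H, hH⟩ := hB.exists_index_two
      exact no_index_two hl (sup_eq_res hl S' hB.card_omega) H hH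

/-- The characteristic two case. -/
theorem charTwo_case (hl : Local G S) :
    (∃ K : Subgroup ↥(res G), IsStronglyEmbedded K) ∨
      ((∃ n : ℕ, 2 ≤ n ∧ Nonempty (↥((S : Subgroup G) ⊓ res G) ≃* DihedralGroup n)) ∨
        IsQuasiDihedral ↥((S : Subgroup G) ⊓ res G)) := by
  haveI : Fact (Nat.Prime 2) := ⟨Nat.prime_two⟩
  haveI := hl.setting.sup_normal S
  have hp : IsPGroup 2 ↥((S : Subgroup G).subgroupOf XX) := S.isPGroup'.comap_subtype
  obtain ⟨P, hP⟩ := hp.exists_le_sylow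
  have hmap : (P : Subgroup ↥XX).map (XX).subtype = (S : Subgroup G) ⊓ XX := by
    obtain ⟨g, hg⟩ := exists_conj_eq hl P
    refine (eq_of_le_of_card_ge ?_ ?_).symm
    · exact fun v hv => ⟨⟨v, hv.2⟩, hP (mem_subgroupOf.mpr hv.1), rfl⟩
    · refine Nat.card_le_card_of_injective
        (fun v => (⟨g⁻¹ * v * g, ?_, ?_⟩ : ↥((S : Subgroup G) ⊓ XX))) ?_
      · obtain ⟨u, hu, huv⟩ := v.2
        rw [← huv]
        exact (hg u).mp hu
      · simpa using conj_mem_XX hl g⁻¹ (map_subtype_le _ v.2)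
      · exact fun a b e => Subtype.ext (mul_left_cancel (mul_right_cancel (congrArg Subtype.val e)))
  set J := thompsonSubgroupOf 2 (P : Subgroup ↥XX)
  set M := normalizer (J : Set ↥XX)
  have hP1 : (P : Subgroup ↥XX) ≠ ⊥ := by
    intro h
    obtain ⟨z, hz, -, hz1⟩ := hl.setting.exists_zOne_res S
    have hzm : (⟨z, mem_sup_right hz⟩ : ↥XX) ∈ (P : Subgroup ↥XX) := hP (mem_subgroupOf.mpr (H69.ZC.zOne_le _ hz))
    rw [h, mem_bot] at hzm
    exact hz1 (congrArg Subtype.val hzm)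
  have hJp : IsPGroup 2 J := P.isPGroup'.to_le (H34.thompsonSubgroupOf_le _)
  have hJ1 : J ≠ ⊥ := H74.JB.thompson_ne_bot P.isPGroup' hP1
  have hM : IsTwoLocal M := ⟨J, hJp, hJ1, rfl⟩
  by_cases hst : (straddlingTwoSubgroups M).Nonempty
  · exact Or.inr (shape_of_straddling hl P M hM le_rfl hst)
  left
  have hse : IsStronglyEmbedded M := (H74.stronglyEmbedded_iff_no_straddling (pCore_eq_bot hl) P M hM le_rfl).mpr
    (Set.not_nonempty_iff_eq_empty.mp hst)
  set MG := normalizer (J.map (XX).subtype : Set G) with hMG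
  have hmem : ∀ v : ↥XX, v ∈ M ↔ (v : G) ∈ MG := by
    intro v
    constructor
    · exact fun hv => le_normalizer_map _ (mem_map_of_mem _ hv)
    · intro hv
      refine H74.mem_normalizer_of_conj_mem fun j hj => ?_
      obtain ⟨k, hk, hkj⟩ := (mem_normalizer_iff.mp hv _).mp (mem_map_of_mem _ hj)
      have hke : k = v * j * v⁻¹ := Subtype.ext (hkj : (k : G) = ((v * j * v⁻¹ : ↥XX) : G))
      exact hke ▸ hk
  have hNle : normalizer (((S : Subgroup G) ⊓ XX : Subgroup G) : Set G) ≤ MG := by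
    rw [hMG, H74.JB.map_thompson, hmap]
    exact H34.normalizer_le_normalizer_thompson _
  have hSN : (S : Subgroup G) ≤ MG := fun s hs => hNle (H74.mem_normalizer_of_conj_mem fun d hd =>
    ⟨(S : Subgroup G).mul_mem ((S : Subgroup G).mul_mem hs hd.1) ((S : Subgroup G).inv_mem hs), conj_mem_XX hl s hd.2⟩)
  have htop : MG ≠ ⊤ := by
    intro h
    have hn : (J.map (XX).subtype).Normal := normalizer_eq_top_iff.mp h
    have hle := H51.le_pCore hn (hJp.map _)
    rw [hl.setting.two, le_bot_iff] at hle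
    exact hJ1 ((map_eq_bot_iff_of_injective _ (XX).subtype_injective).mp hle)
  refine hl.setting.stronglyEmbedded S htop hSN fun r hr hrM hr2 g hgM => ?_
  have hg : g ∈ XX ⊔ MG := by
    refine le_trans (le_of_eq (Sylow.normalizer_sup_eq_top P).symm) ?_ (mem_top g)
    rw [hmap, sup_comm]
    exact sup_le_sup_left hNle _
  obtain ⟨x, hx, n, hn, rfl⟩ := mem_sup_of_normal_left.mp hg
  refine mul_mem ?_ hn
  have hx2 : x⁻¹ * r * x ∈ MG := by
    have h1 := mul_mem (mul_mem hn hgM) (inv_mem hn)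
    rwa [show n * ((x * n)⁻¹ * r * (x * n)) * n⁻¹ = x⁻¹ * r * x by group] at h1
  have hme : Even (Nat.card M) := by
    have h2 : orderOf (⟨r, mem_sup_left hr⟩ : ↥XX) = 2 := by rw [Subgroup.orderOf_mk]; exact hr2
    refine even_iff_two_dvd.mpr ?_
    have h3 := orderOf_dvd_natCard (⟨_, (hmem ⟨r, mem_sup_left hr⟩).mpr hrM⟩ : ↥M)
    rw [Subgroup.orderOf_mk, h2] at h3
    exact h3
  have hMne : M ≠ ⊤ := hse.1
  exact (hmem ⟨x, hx⟩).mp ((H28.isStronglyEmbedded_iff_mem hMne hme).mp hse ⟨r, mem_sup_left hr⟩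
    ((hmem _).mpr hrM) (by rw [Subgroup.orderOf_mk]; exact hr2) ⟨x, hx⟩ ((hmem _).mpr hx2))

end Cfsg.Agent.H91.ZN
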