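import Cfsg.Agent.H91.ZN.Enlarge

/-!
The enlargement of `T` forces a subgroup of index two.
-/

set_option autoImplicit false
set_option linter.style.haveILetI false

namespace Cfsg.Agent.H91.ZN

open Subgroup Cfsg

theorem chi_dT : ∀ a : ZMod 2, chi a dT = 1 ∧ chi a (dT * dZ) = 1 := by decide +kernel

theorem chi_dW : ∀ a : ZMod 2, chi a dW = 0 ∧ dW ≠ 1 ∧ dW * dW = 1 := by decide +kernel

theorem chi_dX : ∀ a : ZMod 2, chi a (dX a) = 0 ∧ dX a ≠ 1 ∧ dX a * dX a = 1 := by decide +kernel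

theorem dZ_sq : dZ * dZ = 1 := by decide +kernel

theorem z2_ne : ¬ (1 : ZMod 2) = 0 := by decide

theorem z2_add : (1 : ZMod 2) + 1 = 0 := by decide

theorem zmod_two_cases : ∀ c : ZMod 2, c = 0 ∨ c = 1 := by decide +kernel

variable {Y : Type*} [Group Y] [Finite Y] {ι κ : D8C2 →* Y} {T P Q : Subgroup Y} {S : Sylow 2 Y}

/-- The involutions of `T` fall into at most two classes. -/
theorem Big.classes (hB : Big ι κ T P Q S) {a : ZMod 2} {y : D8C2}
    (hy : κ dW = ι y * ι (dX a) * (ι y)⁻¹) {x : D8C2} (hx1 : x ≠ 1) (hx2 : x * x = 1) :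
    (chi a x = 0 ∧ ∃ g, g * ι dZ * g⁻¹ = ι x) ∨ (chi a x = 1 ∧ ∃ g, g * ι dT * g⁻¹ = ι x) := by
  obtain ⟨k, hkP, hk⟩ := hB.twin.left.fuse
  obtain ⟨k', hkQ, hk'⟩ := hB.twin.right.fuse
  rw [hB.twin.sq, hy] at hk'
  obtain ⟨n, hn, hnT⟩ := SetLike.exists_of_lt hB.le
  have hswap := hB.swap hn hnT (hB.index_two.2 n hn)
  rw [hB.twin.other] at hswap
  have hkc : k * ι dT * k⁻¹ = ι dT := mul_inv_eq_iff_eq_mul.mpr ((hB.twin.left.cent k).mp hkP)
  have hkc' : k' * ι (dT * dZ) * k'⁻¹ = ι (dT * dZ) := by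
    rw [← hB.twin.other]
    exact mul_inv_eq_iff_eq_mul.mpr ((hB.twin.right.cent k').mp hkQ)
  have hback : ∀ (w : Y) {z v : D8C2} (g : Y), g * w * g⁻¹ = ι v → z * x * z⁻¹ = v →
      ((ι z)⁻¹ * g) * w * ((ι z)⁻¹ * g)⁻¹ = ι x := by
    intro w z v g hg hz
    calc (ι z)⁻¹ * g * w * ((ι z)⁻¹ * g)⁻¹ = (ι z)⁻¹ * (g * w * g⁻¹) * ι z := by group
      _ = _ := by rw [hg, ← hz, map_mul, map_mul, map_inv]; group
  have hX : ((ι y)⁻¹ * k') * ι dZ * ((ι y)⁻¹ * k')⁻¹ = ι (dX a) := by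
    calc (ι y)⁻¹ * k' * ι dZ * ((ι y)⁻¹ * k')⁻¹ = (ι y)⁻¹ * (k' * ι dZ * k'⁻¹) * ι y := by group
      _ = _ := by rw [hk']; group
  rcases invol_class a x hx1 hx2 with ⟨h0, h⟩ | ⟨h1, h⟩
  · refine Or.inl ⟨h0, ?_⟩
    rcases h with rfl | ⟨z, hz | hz⟩
    · exact ⟨1, by simp⟩
    · exact ⟨_, hback _ k hk hz⟩
    · exact ⟨_, hback _ _ hX hz⟩
  · refine Or.inr ⟨h1, ?_⟩
    rcases h with rfl | rfl | ⟨z, hz | hz⟩
    · exact ⟨1, by simp⟩
    · exact ⟨n, hswap⟩
    · refine ⟨_, hback _ (k * n) ?_ hz⟩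
      calc k * n * ι dT * (k * n)⁻¹ = k * (n * ι dT * n⁻¹) * k⁻¹ := by group
        _ = k * ι dT * k⁻¹ * (k * ι dZ * k⁻¹) := by rw [hswap, map_mul]; group
        _ = _ := by rw [hkc, hk, map_mul]
    · refine ⟨_, hback _ ((ι y)⁻¹ * k') ?_ hz⟩
      have hT : ι dT = ι (dT * dZ) * ι dZ := by
        rw [← map_mul]; exact congrArg ι (by decide)
      have hc : (ι y)⁻¹ * ι (dT * dZ) * ι y = ι (dT * dZ) := by
        rw [mul_assoc, ← map_mul, D_central (dT * dZ) (Or.inr (Or.inr (Or.inr rfl))) y, map_mul, inv_mul_cancel_left]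
      calc (ι y)⁻¹ * k' * ι dT * ((ι y)⁻¹ * k')⁻¹
          = (ι y)⁻¹ * (k' * ι (dT * dZ) * k'⁻¹ * (k' * ι dZ * k'⁻¹)) * ι y := by rw [hT]; group
        _ = (ι y)⁻¹ * ι (dT * dZ) * ι y * ι (dX a) := by rw [hkc', hk']; group
        _ = _ := by rw [hc, ← map_mul]

theorem Big.exists_index_two (hB : Big ι κ T P Q S) : ∃ H : Subgroup Y, H.index = 2 := by
  haveI : Fact (Nat.Prime 2) := ⟨Nat.prime_two⟩
  obtain ⟨a, y, hy⟩ := hB.twin.second
  have hL := hB.twin.left
  set K := (chiKer a).map ι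
  have hKT : K ≤ T := by rintro _ ⟨x, -, rfl⟩; exact hL.mem x
  have hmem : ∀ x, ι x ∈ K ↔ chi a x = 0 := fun x => by
    rw [Subgroup.mem_map_iff_mem hL.inj, mem_chiKer]
  -- the kernel is normal in `S`
  have hgen : ∀ s ∈ (S : Subgroup Y), ∀ x, chi a x = 0 → x ≠ 1 → x * x = 1 → s * ι x * s⁻¹ ∈ K := by
    intro s hs x h0 hx1 hx2
    obtain ⟨g, hg⟩ : ∃ g, g * ι dZ * g⁻¹ = ι x := by
      rcases hB.classes hy hx1 hx2 with ⟨-, h⟩ | ⟨h, -⟩
      · exact h
      · rw [h] at h0; exact absurd h0 z2_ne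
    obtain ⟨u, hu⟩ := hL.range.ge (hB.index_two.2 s hs _ (hL.mem x))
    rw [← hu, hmem]
    have hu1 : u ≠ 1 := by
      rintro rfl
      rw [map_one, eq_comm, conj_eq_one_iff, map_eq_one_iff ι hL.inj] at hu
      exact hx1 hu
    have hu2 : u * u = 1 := hL.inj (by
      rw [map_mul, map_one, hu]
      calc s * ι x * s⁻¹ * (s * ι x * s⁻¹) = s * ι (x * x) * s⁻¹ := by rw [map_mul]; group
        _ = 1 := by rw [hx2, map_one]; group)
    rcases hB.classes hy hu1 hu2 with ⟨h, -⟩ | ⟨-, g', hg'⟩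
    · exact h
    · exfalso
      refine hB.z_not_conj (g'⁻¹ * s * g) ?_
      calc g'⁻¹ * s * g * ι dZ * (g'⁻¹ * s * g)⁻¹ = g'⁻¹ * (s * (g * ι dZ * g⁻¹) * s⁻¹) * g' := by group
        _ = g'⁻¹ * (g' * ι dT * g'⁻¹) * g' := by rw [hg, ← hu, hg']
        _ = _ := by group
  have hKn : ∀ s ∈ (S : Subgroup Y), ∀ v ∈ K, s * v * s⁻¹ ∈ K := by
    intro s hs
    rintro _ ⟨x, hx, rfl⟩
    set c := (MulAut.conj s).toMonoidHom.comp ι
    have hW : dW ∈ K.comap c := hgen s hs _ (chi_dW a).1 (chi_dW a).2.1 (chi_dW a).2.2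
    have hXm : dX a ∈ K.comap c := hgen s hs _ (chi_dX a).1 (chi_dX a).2.1 (chi_dX a).2.2
    obtain ⟨i, rfl | rfl⟩ := chiKer_gen a x (mem_chiKer.mp hx)
    · exact mem_comap.mp (pow_mem (mul_mem hW hXm) _)
    · exact mem_comap.mp (mul_mem hW (pow_mem (mul_mem hW hXm) _))
  -- conjugates of `ι dT` avoid the kernel
  have hnoK : ∀ g, g * ι dT * g⁻¹ ∉ K := by
    intro g hg
    obtain ⟨x, hx, hxe⟩ := hg
    have hx1 : x ≠ 1 := by
      rintro rfl
      rw [map_one, eq_comm, conj_eq_one_iff] at hxe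
      exact absurd (hL.inj (hxe.trans (map_one ι).symm)) (by decide)
    have hx2 : x * x = 1 := hL.inj (by
      rw [map_mul, map_one, hxe]
      calc g * ι dT * g⁻¹ * (g * ι dT * g⁻¹) = g * ι (dT * dT) * g⁻¹ := by rw [map_mul]; group
        _ = 1 := by rw [dT_sq, map_one]; group)
    rcases hB.classes hy hx1 hx2 with ⟨-, g', hg'⟩ | ⟨h, -⟩
    · refine hB.z_not_conj (g⁻¹ * g') ?_
      calc g⁻¹ * g' * ι dZ * (g⁻¹ * g')⁻¹ = g⁻¹ * (g' * ι dZ * g'⁻¹) * g := by group
        _ = g⁻¹ * (g * ι dT * g⁻¹) * g := by rw [hg', hxe]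
        _ = _ := by group
    · rw [SetLike.mem_coe, mem_chiKer, h] at hx
      exact absurd hx z2_ne
  obtain ⟨hS32, hTn⟩ := hB.index_two
  have hsq : ∀ s ∈ (S : Subgroup Y), s ∉ T → ∀ t ∈ (S : Subgroup Y), t ∉ T → t * s ∈ T := by
    intro s hs hsT t ht htT
    simpa using hB.coset (inv_mem ht) (fun h => htT (by simpa using inv_mem h))
      (hTn _ (inv_mem ht)) hs hsT (hTn s hs)
  by_cases hf : ∃ f ∈ (S : Subgroup Y), f ∉ T ∧ f * f = 1
  · obtain ⟨f, hfS, hfT, hf2⟩ := hf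
    have hfi : f⁻¹ = f := inv_eq_of_mul_eq_one_right hf2
    have hcf : ∀ v ∈ K, f * v * f ∈ K := fun v hv => by
      have := hKn f hfS v hv
      rwa [hfi] at this
    let Q0 : Subgroup Y :=
      { carrier := {v | v ∈ K ∨ v * f ∈ K}
        one_mem' := Or.inl K.one_mem
        mul_mem' := by
          intro u v hu hv
          rcases hu with hu | hu <;> rcases hv with hv | hv
          · exact Or.inl (K.mul_mem hu hv)
          · exact Or.inr (by rw [mul_assoc]; exact K.mul_mem hu hv)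
          · exact Or.inr (by
              have h := K.mul_mem hu (hcf v hv)
              have e : u * f * (f * v * f) = u * (f * f) * (v * f) := by group
              rw [e, hf2, mul_one, ← mul_assoc] at h
              exact h)
          · exact Or.inl (by
              have h := K.mul_mem hu (hcf _ hv)
              have e : u * f * (f * (v * f) * f) = u * (f * f) * v * (f * f) := by group
              rw [e, hf2, mul_one, mul_one] at h
              exact h)
        inv_mem' := by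
          intro u hu
          rcases hu with hu | hu
          · exact Or.inl (K.inv_mem hu)
          · refine Or.inr ?_
            have h := hcf _ (K.inv_mem hu)
            rw [mul_inv_rev, hfi, show f * (f * u⁻¹) * f = f * f * u⁻¹ * f by group, hf2, one_mul] at h
            exact h }
    have hQ : ∀ v, v ∈ Q0 ↔ v ∈ K ∨ v * f ∈ K := fun v => Iff.rfl
    have hQS : Q0 ≤ (S : Subgroup Y) := by
      intro v hv
      rcases (hQ v).mp hv with h | h
      · exact hB.le.le (hKT h)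
      · simpa using mul_mem (hB.le.le (hKT h)) (inv_mem hfS)
    have hinT : ∀ v ∈ T, (v ∈ Q0 ↔ v ∈ K) := fun v hv => ⟨fun h => h.resolve_right fun h' =>
      hfT ((mul_mem_cancel_left hv).mp (hKT h')), Or.inl⟩
    have hout : ∀ v, v ∉ T → (v ∈ Q0 ↔ v * f ∈ K) := fun v hv =>
      ⟨fun h => h.resolve_left fun h' => hv (hKT h'), Or.inr⟩
    have hQi : Q0.relIndex (S : Subgroup Y) = 2 := by
      refine relIndex_eq_two_iff.mpr ⟨ι dT, hB.le.le (hL.mem _), fun b hb => ?_⟩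
      by_cases hbT : b ∈ T
      · rw [hinT b hbT, hinT _ (mul_mem hbT (hL.mem _))]
        obtain ⟨x, rfl⟩ := hL.range.ge hbT
        rw [← map_mul, hmem, hmem, chi_mul, (chi_dT a).1]
        rcases zmod_two_cases (chi a x) with h | h <;> rw [h]
        · exact Or.inr ⟨rfl, fun h => z2_ne (by simpa using h)⟩
        · exact Or.inl ⟨z2_add, z2_ne⟩
      · rw [hout b hbT, hout _ fun h => hbT ((mul_mem_cancel_right (hL.mem _)).mp h)]
        obtain ⟨x, hx⟩ := hL.range.ge (hsq f hfS hfT b hb hbT)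
        have e : b * ι dT * f = ι (x * (dT * dZ)) := by
          rw [map_mul, hx, ← hB.twin.other, ← hB.swap hfS hfT (hTn f hfS), hfi,
            show b * f * (f * ι dT * f) = b * (f * f) * ι dT * f by group, hf2, mul_one]
        rw [e, ← hx, hmem, hmem, chi_mul, (chi_dT a).2]
        rcases zmod_two_cases (chi a x) with h | h <;> rw [h]
        · exact Or.inr ⟨rfl, fun h => z2_ne (by simpa using h)⟩
        · exact Or.inl ⟨z2_add, z2_ne⟩
    have huQ : ι dT ∉ Q0 := fun h => hnoK 1 (by simpa using (hinT _ (hL.mem _)).mp h)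
    have hu2 : orderOf (ι dT) = 2 := orderOf_eq_prime
      (by rw [pow_two, ← map_mul, dT_sq, map_one])
      fun h => absurd (hL.inj (h.trans (map_one ι).symm)) (by decide)
    rcases Cfsg.Agent.S0111.result S Q0 hQS hQi (ι dT) hu2 (hB.le.le (hL.mem _)) huQ with
      ⟨M, -, hM, -⟩ | ⟨g, hg⟩
    · exact ⟨M, hM⟩
    · exfalso
      by_cases hgT : g * ι dT * g⁻¹ ∈ T
      · exact hnoK g ((hinT _ hgT).mp hg)
      · exact hB.outside_not_conj (hQS hg) hgT g rfl
  · push Not at hf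
    by_contra hG
    push Not at hG
    have h8 : ∀ v ∈ (S : Subgroup Y), v ∉ T → v ^ 4 ≠ 1 := by
      intro v hv hvT h4
      have hvv : v * v ∈ T := hsq v hv hvT v hv hvT
      obtain ⟨x, hx⟩ := hL.range.ge hvv
      have hx2 : x * x = 1 := hL.inj (by
        rw [map_mul, map_one, hx, ← mul_assoc]
        simpa [pow_succ] using h4)
      have hcomm : v * ι x = ι x * v := by rw [hx, mul_assoc]
      by_cases hxc : x = 1 ∨ x = dT ∨ x = dZ ∨ x = dT * dZ
      · rcases hxc with rfl | rfl | rfl | rfl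
        · exact hf v hv hvT (by rw [← hx, map_one])
        · exact hvT (hB.mem_T hv hcomm)
        · obtain ⟨u, huT, huu, hvu⟩ := hB.exists_four hv hvT (Or.inr hx.symm)
          refine hf (v * u) (mul_mem hv (hB.le.le huT)) (fun h => hvT ((mul_mem_cancel_right huT).mp h)) ?_
          calc v * u * (v * u) = v * (u * v) * u := by group
            _ = v * v * (u * u) := by rw [← hvu]; group
            _ = 1 := by rw [← hx, huu, ← map_mul, dZ_sq, map_one]
        · rw [← hB.twin.other] at hcomm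
          exact hvT (hB.mem_T' hv hcomm)
      · exact hB.no_fixed hv hvT (hTn v hv) hx2 hxc hcomm
    obtain ⟨x, ⟨hxS, hxT⟩, hmin⟩ := Set.exists_min_image {v : Y | v ∈ (S : Subgroup Y) ∧ v ∉ T} orderOf
      (Set.toFinite _) (SetLike.exists_of_lt hB.le)
    obtain ⟨n, hn⟩ := S.isPGroup' ⟨x, hxS⟩
    obtain ⟨m, -, hm⟩ := (Nat.dvd_prime_pow Nat.prime_two).1
      (orderOf_dvd_of_pow_eq_one (congrArg Subtype.val hn))
    have hTi : T.relIndex (S : Subgroup Y) = 2 := by
      have h := Subgroup.card_mul_index (T.subgroupOf (S : Subgroup Y))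
      rw [Nat.card_congr (subgroupOfEquivOfLe hB.le.le).toEquiv, hL.card, hS32] at h
      rw [relIndex]; omega
    obtain ⟨g, hg⟩ := H77.exists_conj_mem_of_transfer hG S T hB.le.le hTi x m hm (by
      intro k g hk hkd hmem'
      by_contra hT'
      have h1 := hmin _ ⟨hmem', hT'⟩
      have hconj : orderOf (g⁻¹ * x ^ k * g) = orderOf (x ^ k) := by
        have h := orderOf_injective (MulAut.conj g⁻¹).toMonoidHom (MulAut.conj g⁻¹).injective (x ^ k)
        simpa using h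
      rw [hconj, orderOf_pow_of_dvd (by omega) (hm ▸ hkd)] at h1
      exact absurd h1 (not_le.mpr (Nat.div_lt_self (orderOf_pos x) hk)))
    obtain ⟨u, hu⟩ := hL.range.ge hg
    refine h8 x hxS hxT ?_
    have h4 : (g * x * g⁻¹) ^ 4 = 1 := by
      rw [← hu, ← map_pow, show u ^ 4 = 1 by simpa [pow_succ, mul_assoc] using D_exp u, map_one]
    rwa [conj_pow, conj_eq_one_iff] at h4

end Cfsg.Agent.H91.ZN
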